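import Mathlib
import Groth.Prelude.Def_GrLC

set_option autoImplicit false

namespace K823.PosGen

section

variable {R A : Type*} [CommRing R] [CommRing A] [Algebra R A]
  (𝒜 : ℤ → Submodule R A) [GradedAlgebra 𝒜]
  {p : ℕ} (f : Fin p → A) (deg : Fin p → ℤ)

theorem exists_coeff {κ : Type*} [Fintype κ] (f : κ → A) (deg : κ → ℤ)
    (hf : ∀ i, f i ∈ 𝒜 (deg i)) (N : ℤ) (x : A) (hx : x ∈ 𝒜 N)
    (hxs : x ∈ Ideal.span (Set.range f)) :
    ∃ c : κ → A, (∀ i, c i ∈ 𝒜 (N - deg i)) ∧ x = ∑ i, c i * f i := by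
  classical
  obtain ⟨r, hr⟩ := (Submodule.mem_span_range_iff_exists_fun A).mp hxs
  refine ⟨fun i => (DirectSum.decompose 𝒜 (r i) (N - deg i) : 𝒜 _), fun i => Submodule.coe_mem _, ?_⟩
  have h4 := congrArg (fun y => ((DirectSum.decompose 𝒜 y N : 𝒜 N) : A)) hr
  simp only [smul_eq_mul] at h4
  rw [DirectSum.decompose_of_mem_same 𝒜 hx] at h4
  rw [← h4, DirectSum.decompose_sum, DirectSum.sum_apply, Submodule.coe_sum]
  refine Finset.sum_congr rfl fun i _ => ?_
  have h5 := DirectSum.coe_decompose_mul_add_of_right_mem 𝒜 (i := N - deg i) (j := deg i)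
    (a := r i) (hf i)
  rw [sub_add_cancel] at h5
  exact h5

theorem monomial_mem (hf : ∀ i, f i ∈ 𝒜 (deg i)) (m : Fin p → ℕ) :
    ∏ i, f i ^ m i ∈ 𝒜 (∑ i, m i * deg i) := by
  exact SetLike.prod_mem_graded 𝒜 (fun i => (m i : ℤ) * deg i)
    (fun i => f i ^ m i) (F := Finset.univ) (fun i _ => by
      have := SetLike.pow_mem_graded (A := 𝒜) (m i) (hf i)
      simpa using this)

theorem le_of_forall_monomial (hdeg : ∀ i, 0 < deg i) (hf : ∀ i, f i ∈ 𝒜 (deg i))
    (hgen : Ideal.span {a : A | ∃ n : ℤ, 0 < n ∧ a ∈ 𝒜 n} = Ideal.span (Set.range f))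
    (N : ℤ) (S : Submodule R A)
    (hS : ∀ (m : Fin p → ℕ) (c : A), c ∈ 𝒜 (N - ∑ i, m i * deg i) → N - ∑ i, m i * deg i ≤ 0 →
      c * ∏ i, f i ^ m i ∈ S) : 𝒜 N ≤ S := by
  classical
  have key : ∀ (k : ℕ) (m : Fin p → ℕ) (c : A), (N - ∑ i, m i * deg i).toNat = k →
      c ∈ 𝒜 (N - ∑ i, m i * deg i) → c * ∏ i, f i ^ m i ∈ S := by
    intro k
    induction k using Nat.strong_induction_on with
    | _ k ih =>
      intro m c hk hc
      rcases le_or_gt (N - ∑ i, m i * deg i) 0 with h | h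
      · exact hS m c hc h
      · have hcI : c ∈ Ideal.span (Set.range f) := by
          rw [← hgen]
          exact Ideal.subset_span ⟨_, h, hc⟩
        obtain ⟨b, hb, hcb⟩ := exists_coeff 𝒜 f deg hf _ c hc hcI
        rw [hcb, Finset.sum_mul]
        refine Submodule.sum_mem _ fun i _ => ?_
        have h1 : b i * f i * ∏ j, f j ^ m j =
            b i * ∏ j, f j ^ (m + Pi.single i 1 : Fin p → ℕ) j := by
          rw [mul_assoc]
          congr 1
          simp only [Pi.add_apply, pow_add, Finset.prod_mul_distrib]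
          rw [mul_comm]
          congr 1
          rw [Finset.prod_eq_single i]
          · simp
          · intro j _ hj; simp [Pi.single_eq_of_ne hj]
          · simp
        have h2 : ∑ j, ((m + Pi.single i 1 : Fin p → ℕ) j : ℕ) * deg j = ∑ j, (m j : ℤ) * deg j + deg i := by
          simp only [Pi.add_apply, Nat.cast_add, add_mul, Finset.sum_add_distrib]
          congr 1
          rw [Finset.sum_eq_single i]
          · simp
          · intro j _ hj; simp [Pi.single_eq_of_ne hj]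
          · simp
        rw [h1]
        refine ih _ ?_ (m + Pi.single i 1) (b i) rfl ?_
        · rw [h2]
          have := hdeg i
          omega
        · rw [h2, ← sub_sub]
          exact hb i
  intro x hx
  have := key (N - ∑ i, (0 : Fin p → ℕ) i * deg i).toNat 0 x rfl (by simpa using hx)
  simpa using this

theorem piece_eq_mul (hdeg : ∀ i, 0 < deg i) (hf : ∀ i, f i ∈ 𝒜 (deg i))
    (hgen : Ideal.span {a : A | ∃ n : ℤ, 0 < n ∧ a ∈ 𝒜 n} = Ideal.span (Set.range f))
    (d : ℤ) (hd : 0 < d) (hdvd : ∀ i, deg i ∣ d) (N : ℤ) (hN : d * p - ∑ i, deg i < N) :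
    𝒜 N = 𝒜 d * 𝒜 (N - d) := by
  classical
  apply le_antisymm
  · apply le_of_forall_monomial 𝒜 f deg hdeg hf hgen
    intro m c hc hle
    have hex : ∃ i, d - deg i < m i * deg i := by
      by_contra! hcon
      have h1 : ∑ i, (m i : ℤ) * deg i ≤ ∑ i, (d - deg i) := Finset.sum_le_sum fun i _ => hcon i
      simp only [Finset.sum_sub_distrib, Finset.sum_const, Finset.card_univ, Fintype.card_fin,
        nsmul_eq_mul] at h1
      linarith [mul_comm d p]
    obtain ⟨i, hi⟩ := hex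
    obtain ⟨e, he⟩ := hdvd i
    have hdi := hdeg i
    have he0 : 0 < e := by
      rw [he] at hd
      exact (mul_pos_iff_of_pos_left hdi).mp hd
    lift e to ℕ using he0.le
    have hle' : e ≤ m i := by
      have h1 : deg i * (e : ℤ) < deg i * ((m i : ℤ) + 1) := by rw [← he]; linarith
      have h2 := lt_of_mul_lt_mul_left h1 hdi.le
      omega
    have h3 : c * ∏ j, f j ^ m j = f i ^ e * (c * (f i ^ (m i - e) * ∏ j ∈ Finset.univ.erase i, f j ^ m j)) := by
      rw [← Finset.mul_prod_erase Finset.univ (fun j => f j ^ m j) (Finset.mem_univ i)]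
      have : f i ^ m i = f i ^ e * f i ^ (m i - e) := by rw [← pow_add]; congr 1; omega
      rw [this]; ring
    rw [h3]
    have h4 : f i ^ e ∈ 𝒜 d := by
      have := SetLike.pow_mem_graded (A := 𝒜) e (hf i)
      rw [he]
      simpa [mul_comm] using this
    refine Submodule.mul_mem_mul h4 ?_
    have h5 : f i ^ (m i - e) ∈ 𝒜 (((m i - e : ℕ) : ℤ) * deg i) := by
      simpa using SetLike.pow_mem_graded (A := 𝒜) (m i - e) (hf i)
    have h6 : ∏ j ∈ Finset.univ.erase i, f j ^ m j ∈ 𝒜 (∑ j ∈ Finset.univ.erase i, m j * deg j) :=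
      SetLike.prod_mem_graded 𝒜 (fun j => (m j : ℤ) * deg j) (fun j => f j ^ m j)
        (fun j _ => by simpa using SetLike.pow_mem_graded (A := 𝒜) (m j) (hf j))
    have h7 := SetLike.GradedMul.mul_mem hc (SetLike.GradedMul.mul_mem h5 h6)
    have h8 : N - ∑ j, (m j : ℤ) * deg j +
        (((m i - e : ℕ) : ℤ) * deg i + ∑ j ∈ Finset.univ.erase i, (m j : ℤ) * deg j) = N - d := by
      rw [← Finset.add_sum_erase Finset.univ (fun j => (m j : ℤ) * deg j) (Finset.mem_univ i),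
        Nat.cast_sub hle', he]
      ring
    rwa [h8] at h7
  · rw [Submodule.mul_le]
    intro a ha b hb
    have := SetLike.GradedMul.mul_mem ha hb
    rwa [add_sub_cancel] at this

theorem pow_le_piece (d : ℤ) (n : ℕ) : (𝒜 d) ^ n ≤ 𝒜 (n * d) := by
  induction n with
  | zero =>
    simp only [pow_zero, Nat.cast_zero, zero_mul]
    rw [Submodule.one_le]
    exact SetLike.GradedOne.one_mem
  | succ n ih =>
    rw [pow_succ, Submodule.mul_le]
    intro a ha b hb
    have := SetLike.GradedMul.mul_mem (ih ha) hb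
    have h : (n : ℤ) * d + d = ((n + 1 : ℕ) : ℤ) * d := by push_cast; ring
    rwa [h] at this

theorem exists_piece_le_pow (hdeg : ∀ i, 0 < deg i) (hf : ∀ i, f i ∈ 𝒜 (deg i))
    (hgen : Ideal.span {a : A | ∃ n : ℤ, 0 < n ∧ a ∈ 𝒜 n} = Ideal.span (Set.range f)) (K : ℕ) :
    ∃ s : ℤ, ∀ n : ℤ, s ≤ n → ∀ r ∈ 𝒜 n, r ∈ (Ideal.span (Set.range f)) ^ K := by
  induction K with
  | zero => exact ⟨0, fun n _ r _ => by simp⟩
  | succ K ih =>
    obtain ⟨s, hs⟩ := ih
    refine ⟨max (s + ∑ i, deg i) 1, fun n hn r hr => ?_⟩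
    have hn0 : 0 < n := by have := le_max_right (s + ∑ i, deg i) 1; omega
    have hn1 : s + ∑ i, deg i ≤ n := (le_max_left _ _).trans hn
    have hrI : r ∈ Ideal.span (Set.range f) := by
      rw [← hgen]
      exact Ideal.subset_span ⟨_, hn0, hr⟩
    obtain ⟨c, hc, hrc⟩ := exists_coeff 𝒜 f deg hf n r hr hrI
    rw [hrc, pow_succ]
    refine Ideal.sum_mem _ fun i _ => ?_
    refine Ideal.mul_mem_mul (hs _ ?_ _ (hc i)) (Ideal.subset_span ⟨i, rfl⟩)
    have : deg i ≤ ∑ j, deg j := Finset.single_le_sum (fun j _ => (hdeg j).le) (Finset.mem_univ i)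
    omega

end

universe u

theorem mem_gam_tfae {R A : Type u} [CommRing R] [CommRing A] [Algebra R A]
    (𝒜 : ℤ → Submodule R A) [GradedAlgebra 𝒜]
    {p : ℕ} (f : Fin p → A) (deg : Fin p → ℤ) (hdeg : ∀ i, 0 < deg i) (hf : ∀ i, f i ∈ 𝒜 (deg i))
    (hgen : Ideal.span {a : A | ∃ n : ℤ, 0 < n ∧ a ∈ 𝒜 n} = Ideal.span (Set.range f))
    (d : ℤ) (hd : 0 < d) (hdvd : ∀ i, deg i ∣ d)
    {M : Type u} [AddCommGroup M] [Module A M] (x : M) :
    [x ∈ GrLC.gam (Ideal.span (Set.range f)) M,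
     ∃ n₀ : ℕ, ∀ n : ℕ, n₀ ≤ n → ∀ r ∈ (𝒜 d) ^ n, r • x = 0,
     ∃ s : ℤ, ∀ n : ℤ, s ≤ n → ∀ r ∈ 𝒜 n, r • x = 0].TFAE := by
  tfae_have 1 → 3 := by
    rintro ⟨K, hK⟩
    obtain ⟨s, hs⟩ := exists_piece_le_pow 𝒜 f deg hdeg hf hgen K
    exact ⟨s, fun n hn r hr => hK r (hs n hn r hr)⟩
  tfae_have 3 → 2 := by
    rintro ⟨s, hs⟩
    refine ⟨s.toNat, fun n hn r hr => hs (n * d) ?_ r (pow_le_piece 𝒜 d n hr)⟩
    have h1 : s ≤ n := by omega
    have h2 : (n : ℤ) ≤ n * d := le_mul_of_one_le_right (by positivity) (by omega)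
    omega
  tfae_have 2 → 1 := by
    rintro ⟨n₀, hn₀⟩
    let J : Ideal A := LinearMap.ker (LinearMap.toSpanSingleton A M x)
    have hJ : ∀ r, r ∈ J ↔ r • x = 0 := fun r => by
      simp [J, LinearMap.mem_ker, LinearMap.toSpanSingleton_apply]
    have hle : Ideal.span (Set.range f) ≤ J.radical := by
      rw [Ideal.span_le]
      rintro _ ⟨i, rfl⟩
      obtain ⟨e, he⟩ := hdvd i
      have hdi := hdeg i
      have he0 : 0 < e := by
        rw [he] at hd
        exact (mul_pos_iff_of_pos_left hdi).mp hd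
      lift e to ℕ using he0.le
      refine ⟨e * n₀, ?_⟩
      rw [hJ]
      apply hn₀ n₀ le_rfl
      rw [pow_mul]
      have h4 : f i ^ e ∈ 𝒜 d := by
        have := SetLike.pow_mem_graded (A := 𝒜) e (hf i)
        rw [he]
        simpa [mul_comm] using this
      exact Submodule.pow_mem_pow _ h4 _
    obtain ⟨K, hK⟩ := Ideal.exists_pow_le_of_le_radical_of_fg hle
      ⟨(Set.finite_range f).toFinset, by simp⟩
    exact ⟨K, fun r hr => (hJ r).mp (hK hr)⟩
  tfae_finish

end K823.PosGen
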