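import Mathlib
import Groth.Agent.GrRing.K823.PosGen

set_option autoImplicit false

namespace K823.NoethTfae

open K823.PosGen

variable {R A : Type*} [CommRing R] [CommRing A] [Algebra R A]
  (𝒜 : ℤ → Submodule R A) [GradedAlgebra 𝒜]

/-- If the ideal generated by an `𝒜 0`-submodule `V` of `𝒜 n` is finitely generated, then `V` is
finitely generated over `𝒜 0`. -/
theorem fg_of_fg_span (n : ℤ) (V : Submodule (𝒜 0) A) (hV : ∀ x ∈ V, x ∈ 𝒜 n)
    (hfg : (Ideal.span (V : Set A)).FG) : ∃ s : Finset A, (s : Set A) ⊆ V ∧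
      Submodule.span (𝒜 0) (s : Set A) = V := by
  classical
  rw [show (Ideal.span (V : Set A)).FG ↔ (Submodule.span A (V : Set A)).FG from Iff.rfl,
    Submodule.fg_span_iff_fg_span_finset_subset] at hfg
  obtain ⟨s, hs, hspan⟩ := hfg
  refine ⟨s, hs, ?_⟩
  apply le_antisymm
  · rw [Submodule.span_le]
    exact hs
  · intro x hx
    have h2 : x ∈ Submodule.span A (s : Set A) := by
      rw [← hspan]
      exact Submodule.subset_span hx
    have h2' : x ∈ Ideal.span (Set.range (fun i : s => (i : A))) := by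
      rw [show Set.range (fun i : s => (i : A)) = (s : Set A) from Subtype.range_coe]; exact h2
    obtain ⟨c, hc, hxc⟩ := exists_coeff 𝒜 (fun i : s => (i : A)) (fun _ => n)
      (fun i => hV _ (hs i.2)) n x (hV x hx) h2'
    rw [hxc]
    refine Submodule.sum_mem _ fun i _ => ?_
    have hci := hc i
    rw [sub_self] at hci
    exact Submodule.smul_mem _ (⟨c i, hci⟩ : 𝒜 0) (Submodule.subset_span i.2)

variable (h2 : ∀ I : Ideal A, I.IsHomogeneous 𝒜 → I.FG)

include h2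

theorem isNoetherianRing_zero : IsNoetherianRing (𝒜 0) := by
  classical
  rw [isNoetherianRing_iff_ideal_fg]
  intro J
  let V : Submodule (𝒜 0) A := Submodule.map (Algebra.linearMap (𝒜 0) A) J
  have hV : ∀ x ∈ V, x ∈ 𝒜 0 := by
    rintro _ ⟨y, _, rfl⟩
    exact y.2
  obtain ⟨s, hs, hspan⟩ := fg_of_fg_span 𝒜 0 V hV (h2 _ (Ideal.homogeneous_span 𝒜 _
    (fun x hx => ⟨0, hV x hx⟩)))
  have hfg : V.FG := ⟨s, hspan⟩
  exact Submodule.fg_of_fg_map_injective (Algebra.linearMap (𝒜 0) A)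
    (fun x y hxy => Subtype.ext hxy) hfg

theorem exists_span_piece (n : ℤ) : ∃ s : Finset A, (∀ x ∈ s, x ∈ 𝒜 n) ∧
    ∀ x ∈ 𝒜 n, x ∈ Submodule.span (𝒜 0) (s : Set A) := by
  classical
  let V : Submodule (𝒜 0) A :=
    { carrier := {x | x ∈ 𝒜 n}
      add_mem' := fun {x y} hx hy => (𝒜 n).add_mem hx hy
      zero_mem' := (𝒜 n).zero_mem
      smul_mem' := by
        intro c x hx
        have := SetLike.GradedMul.mul_mem (A := 𝒜) c.2 hx
        rwa [zero_add] at this }
  obtain ⟨s, hs, hspan⟩ := fg_of_fg_span 𝒜 n V (fun x hx => hx) (h2 _ (Ideal.homogeneous_span 𝒜 _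
    (fun x hx => ⟨n, hx⟩)))
  exact ⟨s, fun x hx => hs hx, fun x hx => by rw [hspan]; exact hx⟩

/-- the half part `⊕_{n ≥ 0} 𝒜 (ε n)` is of finite type. -/
theorem adjoin_fg (ε : ℤ) :
    (Algebra.adjoin (𝒜 0) {a : A | ∃ n : ℤ, 0 ≤ n ∧ a ∈ 𝒜 (ε * n)}).FG := by
  classical
  -- finitely many homogeneous generators of the positive ideal
  have hI : (Ideal.span {a : A | ∃ n : ℤ, 0 < n ∧ a ∈ 𝒜 (ε * n)}).FG :=
    h2 _ (Ideal.homogeneous_span 𝒜 _ (by
      rintro x ⟨n, _, hx⟩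
      exact ⟨_, hx⟩))
  rw [show (Ideal.span {a : A | ∃ n : ℤ, 0 < n ∧ a ∈ 𝒜 (ε * n)}).FG ↔
    (Submodule.span A {a : A | ∃ n : ℤ, 0 < n ∧ a ∈ 𝒜 (ε * n)}).FG from Iff.rfl,
    Submodule.fg_span_iff_fg_span_finset_subset] at hI
  obtain ⟨s, hs, hspan⟩ := hI
  have hs' : ∀ i : s, ∃ n : ℤ, 0 < n ∧ (i : A) ∈ 𝒜 (ε * n) := fun i => hs i.2
  have hs'' := hs'
  choose dg hdg0 hdg using hs''
  choose t ht1 ht2 using exists_span_piece 𝒜 h2
  let D : ℕ := ∑ i, (dg i).toNat
  let G : Finset A := s ∪ (Finset.range (D + 1)).biUnion (fun n => t (ε * n))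
  refine ⟨G, ?_⟩
  apply le_antisymm
  · apply Algebra.adjoin_mono
    intro x hx
    simp only [G, Finset.coe_union, Set.mem_union, Finset.mem_coe, Finset.mem_biUnion] at hx
    rcases hx with hx | ⟨n, _, hx⟩
    · obtain ⟨n, hn, hx'⟩ := hs' ⟨x, hx⟩
      exact ⟨n, hn.le, hx'⟩
    · exact ⟨n, by positivity, ht1 _ x hx⟩
  · rw [Algebra.adjoin_le_iff]
    rintro x ⟨n, hn, hx⟩
    lift n to ℕ using hn
    induction n using Nat.strong_induction_on generalizing x with
    | _ n ih =>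
      by_cases hnD : n ≤ D
      · have h1 := ht2 _ x hx
        have h3 : Submodule.span (𝒜 0) (t (ε * n) : Set A) ≤
            Subalgebra.toSubmodule (Algebra.adjoin (𝒜 0) (G : Set A)) := by
          rw [Submodule.span_le]
          intro y hy
          apply Algebra.subset_adjoin
          simp only [G, Finset.coe_union, Set.mem_union, Finset.mem_coe, Finset.mem_biUnion]
          exact Or.inr ⟨n, by simp; omega, hy⟩
        exact h3 h1
      · have hn0 : 0 < n := by omega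
        have h3 : x ∈ Ideal.span (Set.range (fun i : s => (i : A))) := by
          rw [show Set.range (fun i : s => (i : A)) = (s : Set A) from Subtype.range_coe]
          change x ∈ Submodule.span A (s : Set A)
          rw [← hspan]
          exact Submodule.subset_span ⟨n, by exact_mod_cast hn0, hx⟩
        obtain ⟨c, hc, hxc⟩ := exists_coeff 𝒜 (fun i : s => (i : A)) (fun i => ε * dg i)
          hdg _ x hx h3
        rw [hxc]
        refine Subalgebra.sum_mem _ fun i _ => Subalgebra.mul_mem _ ?_ ?_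
        · have h4 : dg i ≤ D := by
            have : (dg i).toNat ≤ D := Finset.single_le_sum (f := fun i => (dg i).toNat)
              (fun j _ => Nat.zero_le _) (Finset.mem_univ i)
            omega
          have h5 := hdg0 i
          refine ih (n - (dg i).toNat) (by omega) ?_
          have h6 : ((n - (dg i).toNat : ℕ) : ℤ) = n - dg i := by omega
          rw [h6, mul_sub]
          exact hc i
        · apply Algebra.subset_adjoin
          simp only [G, Finset.coe_union, Set.mem_union]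
          exact Or.inl i.2

omit h2

theorem tfae :
    [IsNoetherianRing A,
     ∀ I : Ideal A, I.IsHomogeneous 𝒜 → I.FG,
     IsNoetherianRing (𝒜 0) ∧ (Algebra.adjoin (𝒜 0) {a : A | ∃ n : ℤ, 0 ≤ n ∧ a ∈ 𝒜 n}).FG ∧
       (Algebra.adjoin (𝒜 0) {a : A | ∃ n : ℤ, n ≤ 0 ∧ a ∈ 𝒜 n}).FG,
     IsNoetherianRing (𝒜 0) ∧ Algebra.FiniteType (𝒜 0) A].TFAE := by
  classical
  tfae_have 1 → 2 := fun h I _ => IsNoetherian.noetherian I
  tfae_have 2 → 3 := by
    intro h2
    refine ⟨isNoetherianRing_zero 𝒜 h2, ?_, ?_⟩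
    · have := adjoin_fg 𝒜 h2 1
      simpa using this
    · have := adjoin_fg 𝒜 h2 (-1)
      have h3 : {a : A | ∃ n : ℤ, 0 ≤ n ∧ a ∈ 𝒜 (-1 * n)} = {a : A | ∃ n : ℤ, n ≤ 0 ∧ a ∈ 𝒜 n} := by
        ext a
        constructor
        · rintro ⟨n, hn, ha⟩
          exact ⟨-1 * n, by omega, ha⟩
        · rintro ⟨n, hn, ha⟩
          exact ⟨-n, by omega, by simpa using ha⟩
      rwa [h3] at this
  tfae_have 3 → 4 := by
    rintro ⟨h1, h2, h3⟩
    refine ⟨h1, ⟨?_⟩⟩
    have h4 : (⊤ : Subalgebra (𝒜 0) A) =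
        Algebra.adjoin (𝒜 0) {a : A | ∃ n : ℤ, 0 ≤ n ∧ a ∈ 𝒜 n} ⊔
        Algebra.adjoin (𝒜 0) {a : A | ∃ n : ℤ, n ≤ 0 ∧ a ∈ 𝒜 n} := by
      symm
      rw [eq_top_iff]
      intro x _
      rw [← DirectSum.sum_support_decompose 𝒜 x]
      refine Subalgebra.sum_mem _ fun i _ => ?_
      rcases le_total 0 i with hi | hi
      · exact (le_sup_left : Algebra.adjoin (𝒜 0) {a : A | ∃ n : ℤ, 0 ≤ n ∧ a ∈ 𝒜 n} ≤ _)
          (Algebra.subset_adjoin ⟨i, hi, Submodule.coe_mem _⟩)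
      · exact (le_sup_right : Algebra.adjoin (𝒜 0) {a : A | ∃ n : ℤ, n ≤ 0 ∧ a ∈ 𝒜 n} ≤ _)
          (Algebra.subset_adjoin ⟨i, hi, Submodule.coe_mem _⟩)
    rw [h4]
    exact h2.sup h3
  tfae_have 4 → 1 := by
    rintro ⟨h1, h2⟩
    exact Algebra.FiniteType.isNoetherianRing (𝒜 0) A
  tfae_finish

end K823.NoethTfae
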